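import Mathlib

/-!
# Schematic density of a family of flat algebras, after base change (IV 11.10.9; IX 4.9)
-/

set_option autoImplicit false

universe u

open scoped TensorProduct

namespace Groth.Agent.Deform.TorsionDense

variable {R : Type u} [CommRing R] {B : Type u} [CommRing B] [Algebra R B]
  {ι : Type*} {C : ι → Type u} [∀ i, CommRing (C i)] [∀ i, Algebra R (C i)] (ψ : ∀ i, B →ₐ[R] C i)

/-- The family is jointly injective after base change to `E`. -/
def Dense (E : Type u) [CommRing E] [Algebra R E] : Prop :=
  ∀ b : E ⊗[R] B, (∀ i, Algebra.TensorProduct.map (AlgHom.id R E) (ψ i) b = 0) → b = 0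

/-- Joint injectivity is preserved by a field extension. -/
theorem Dense.of_field {K L : Type u} [Field K] [Field L] [Algebra R K] [Algebra R L] [Algebra K L]
    [IsScalarTower R K L] (h : Dense ψ K) : Dense ψ L := by
  intro b hb
  let bas := Module.Free.chooseBasis K L
  let e := (TensorProduct.AlgebraTensorModule.cancelBaseChange R K K L B).symm
  let E := TensorProduct.equivFinsuppOfBasisLeft bas (N := K ⊗[R] B)
  suffices E (e b) = 0 by simpa using this
  ext j
  refine h _ fun i => ?_
  let e' := (TensorProduct.AlgebraTensorModule.cancelBaseChange R K K L (C i)).symm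
  let E' := TensorProduct.equivFinsuppOfBasisLeft bas (N := K ⊗[R] C i)
  have key : ∀ x : L ⊗[R] B, Algebra.TensorProduct.map (AlgHom.id R K) (ψ i) (E (e x) j) =
      E' (e' (Algebra.TensorProduct.map (AlgHom.id R L) (ψ i) x)) j := by
    intro x
    induction x using TensorProduct.induction_on with
    | zero => simp
    | tmul l y =>
      simp only [e, e', E, E', Algebra.TensorProduct.map_tmul, AlgHom.id_apply,
        TensorProduct.AlgebraTensorModule.cancelBaseChange_symm_tmul,
        TensorProduct.equivFinsuppOfBasisLeft_apply_tmul_apply, TensorProduct.smul_tmul', map_smul,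
        smul_eq_mul, mul_one]
    | add x y hx hy => simp only [map_add, Finsupp.add_apply, hx, hy]
  rw [key, hb i]
  simp

variable (A : Type u) [CommRing A] [IsLocalRing A] [Algebra R A] [∀ i, Module.Flat R (C i)]

/-- A relation among a minimal system of generators of an ideal has coefficients in the maximal ideal. -/
theorem mem_maximalIdeal_of_relation {J : Ideal A} {n : ℕ} {ε : Fin n → A} (hspan : Ideal.span (Set.range ε) = J)
    (hmin : ∀ (m : ℕ) (η : Fin m → A), Ideal.span (Set.range η) = J → n ≤ m) {c : Fin n → A}
    (hc : ∑ j, c j * ε j = 0) (j : Fin n) : c j ∈ IsLocalRing.maximalIdeal A := by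
  by_contra hj
  obtain ⟨v, hv⟩ := IsLocalRing.notMem_maximalIdeal.mp hj
  rcases n with - | n
  · exact j.elim0
  have := hmin n (ε ∘ j.succAbove) ?_
  · omega
  refine le_antisymm ?_ ?_
  · rw [← hspan]
    exact Ideal.span_mono (Set.range_comp_subset_range _ _)
  · rw [← hspan, Ideal.span_le]
    rintro _ ⟨l, rfl⟩
    rcases Fin.eq_self_or_eq_succAbove j l with rfl | ⟨l, rfl⟩
    · rw [SetLike.mem_coe, ← Units.inv_mul_cancel_left v (ε l)]
      refine Ideal.mul_mem_left _ _ ?_
      rw [Fin.sum_univ_succAbove _ l, ← hv, add_eq_zero_iff_eq_neg] at hc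
      rw [hc]
      exact neg_mem (sum_mem fun k _ => Ideal.mul_mem_left _ _ (Ideal.subset_span ⟨k, rfl⟩))
    · exact Ideal.subset_span ⟨l, rfl⟩

variable {A}

/-- An element killed by the family lies in all powers of the maximal ideal. -/
theorem mem_map_pow [IsNoetherianRing A] (hd : Dense ψ (IsLocalRing.ResidueField A)) (a : A ⊗[R] B)
    (ha : ∀ i, Algebra.TensorProduct.map (AlgHom.id R A) (ψ i) a = 0) (k : ℕ) :
    a ∈ (IsLocalRing.maximalIdeal A ^ k).map (algebraMap A (A ⊗[R] B)) := by
  induction k with
  | zero => rw [pow_zero, Ideal.one_eq_top, Ideal.map_top]; trivial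
  | succ k ih =>
    let m := IsLocalRing.maximalIdeal A
    let J := m ^ k
    classical
    have hex : ∃ n, ∃ ε : Fin n → A, Ideal.span (Set.range ε) = J :=
      Submodule.fg_iff_exists_fin_generating_family.mp (IsNoetherian.noetherian J)
    obtain ⟨ε, hε⟩ := Nat.find_spec hex
    have hmin : ∀ (l : ℕ) (η : Fin l → A), Ideal.span (Set.range η) = J → Nat.find hex ≤ l :=
      fun l η h => Nat.find_le ⟨η, h⟩
    rw [show IsLocalRing.maximalIdeal A ^ k = J from rfl, ← hε, Ideal.map_span, ← Set.range_comp] at ih
    obtain ⟨c, hc⟩ := Ideal.mem_span_range_iff_exists_fun.mp ih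
    have hker : ∀ j, c j ∈ m.map (algebraMap A (A ⊗[R] B)) := by
      intro j
      let res : A →ₐ[R] IsLocalRing.ResidueField A := IsScalarTower.toAlgHom R A _
      have hres : Function.Surjective res := IsLocalRing.residue_surjective
      have h1 : Algebra.TensorProduct.map res (AlgHom.id R B) (c j) = 0 := hd _ fun i => by
        let ψ' : A ⊗[R] B →ₐ[A] A ⊗[R] C i := Algebra.TensorProduct.map (AlgHom.id A A) (ψ i)
        have h2 : ∀ x, ψ' x = Algebra.TensorProduct.map (AlgHom.id R A) (ψ i) x := fun x => by
          induction x using TensorProduct.induction_on with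
          | zero => simp
          | tmul l y => simp [ψ']
          | add x y hx hy => simp only [map_add, hx, hy]
        have h3 : ∑ l, ε l • ψ' (c l) = 0 := by
          rw [← ha i, ← hc, ← h2, map_sum]
          refine Finset.sum_congr rfl fun l _ => ?_
          rw [Function.comp_apply, map_mul, AlgHom.commutes, Algebra.smul_def, mul_comm]
        haveI : Module.Flat A (A ⊗[R] C i) := inferInstance
        obtain ⟨κ, r, z, hz, hr⟩ := Module.Flat.isTrivialRelation_of_sum_smul_eq_zero h3
        have h4 : ∀ x : A ⊗[R] B, Algebra.TensorProduct.map (AlgHom.id R _) (ψ i)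
              (Algebra.TensorProduct.map res (AlgHom.id R B) x) =
            Algebra.TensorProduct.map res (AlgHom.id R (C i)) (ψ' x) := fun x => by
          induction x using TensorProduct.induction_on with
          | zero => simp
          | tmul l y => simp [ψ']
          | add x y hx hy => simp only [map_add, hx, hy]
        have hz' : ψ' (c j) = ∑ l, r j l • z l := hz j
        rw [h4, hz', map_sum]
        refine Finset.sum_eq_zero fun l _ => ?_
        have h5 : r j l ∈ m := mem_maximalIdeal_of_relation A hε hmin
          (c := fun t => r t l) (by simpa [mul_comm] using hr l) j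
        rw [Algebra.smul_def, map_mul, Algebra.TensorProduct.algebraMap_apply, Algebra.TensorProduct.map_tmul,
          show res (algebraMap A A (r j l)) = 0 from (IsLocalRing.residue_eq_zero_iff _).mpr h5,
          TensorProduct.zero_tmul, zero_mul]
      have h6 := Algebra.TensorProduct.rTensor_ker (R := R) (S := R) (A := A) (B := IsLocalRing.ResidueField A)
        (C := B) (f := res) hres
      have h7 : c j ∈ RingHom.ker (Algebra.TensorProduct.map res (AlgHom.id R B)) := h1
      rw [h6] at h7
      have h8 : RingHom.ker res = m := Ideal.ext fun x => IsLocalRing.residue_eq_zero_iff x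
      rw [h8] at h7
      exact h7
    rw [← hc, pow_succ', Ideal.map_mul]
    refine sum_mem fun l _ => Ideal.mul_mem_mul (hker l) ?_
    exact Ideal.mem_map_of_mem _ (show ε l ∈ J by rw [← hε]; exact Ideal.subset_span ⟨l, rfl⟩)

/-- A family of flat algebras which is jointly injective on all fibres is jointly injective. -/
theorem dense_of_fibres {E : Type u} [CommRing E] [IsNoetherianRing E] [Algebra R E] [Algebra.FiniteType R B]
    (hd : ∀ (p : Ideal E) [p.IsPrime], Dense ψ p.ResidueField) : Dense ψ E := by
  intro a ha
  let D := E ⊗[R] B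
  refine eq_zero_of_localization a fun Q hQ => ?_
  let p := Q.comap (algebraMap E D)
  let A := Localization.AtPrime p
  haveI : p.IsPrime := inferInstance
  haveI : IsNoetherianRing A := IsLocalization.isNoetherianRing p.primeCompl A inferInstance
  haveI : Algebra.FiniteType A (A ⊗[R] B) := inferInstance
  haveI : IsNoetherianRing (A ⊗[R] B) := Algebra.FiniteType.isNoetherianRing A _
  let loc : E →ₐ[R] A := IsScalarTower.toAlgHom R E A
  let a' : A ⊗[R] B := Algebra.TensorProduct.map loc (AlgHom.id R B) a
  have ha' : ∀ i, Algebra.TensorProduct.map (AlgHom.id R A) (ψ i) a' = 0 := fun i => by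
    have h1 : (Algebra.TensorProduct.map (AlgHom.id R A) (ψ i)).comp (Algebra.TensorProduct.map loc (AlgHom.id R B)) =
        (Algebra.TensorProduct.map loc (AlgHom.id R (C i))).comp (Algebra.TensorProduct.map (AlgHom.id R E) (ψ i)) := by
      ext <;> simp
    rw [show a' = Algebra.TensorProduct.map loc (AlgHom.id R B) a from rfl, ← AlgHom.comp_apply, h1,
      AlgHom.comp_apply, ha i, map_zero]
  have h2 : a' ∈ (⨅ k : ℕ, ((IsLocalRing.maximalIdeal A).map (algebraMap A (A ⊗[R] B))) ^ k • ⊤ :
      Submodule (A ⊗[R] B) (A ⊗[R] B)) := by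
    simp only [Submodule.mem_iInf]
    intro k
    rw [← Ideal.map_pow]
    have h := Submodule.smul_mem_smul (mem_map_pow ψ (hd p) a' ha' k)
      (Submodule.mem_top (R := A ⊗[R] B) (M := A ⊗[R] B) (x := (1 : A ⊗[R] B)))
    have e : a' • (1 : A ⊗[R] B) = a' := mul_one a'
    exact e ▸ h
  obtain ⟨⟨r, hr⟩, hra⟩ := (Ideal.mem_iInf_smul_pow_eq_bot_iff _ a').mp h2
  -- the localisation at `Q` receives `A ⊗ B`
  let L := Localization.AtPrime Q
  let f : E →+* L := (algebraMap D L).comp (algebraMap E D)
  have hf : ∀ e : p.primeCompl, IsUnit (f e) := fun e =>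
    IsLocalization.map_units L (⟨algebraMap E D e, e.2⟩ : Q.primeCompl)
  let gA : A →ₐ[R] L :=
    { IsLocalization.lift hf with
      commutes' := fun x => by
        show IsLocalization.lift hf (algebraMap R A x) = _
        rw [IsScalarTower.algebraMap_apply R E A, IsLocalization.lift_eq]
        show algebraMap D L (algebraMap E D (algebraMap R E x)) = _
        rw [← IsScalarTower.algebraMap_apply R E D, ← IsScalarTower.algebraMap_apply R D L] }
  let gB : B →ₐ[R] L := (IsScalarTower.toAlgHom R D L).comp Algebra.TensorProduct.includeRight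
  let g := Algebra.TensorProduct.productMap gA gB
  have hg : ∀ x : D, g (Algebra.TensorProduct.map loc (AlgHom.id R B) x) = algebraMap D L x := fun x => by
    induction x using TensorProduct.induction_on with
    | zero => simp
    | tmul l y =>
      have : gA (loc l) = f l := IsLocalization.lift_eq hf l
      simp only [g, Algebra.TensorProduct.map_tmul, AlgHom.id_apply, Algebra.TensorProduct.productMap_apply_tmul, this]
      show algebraMap D L (l ⊗ₜ 1) * algebraMap D L (1 ⊗ₜ y) = _
      rw [← map_mul, Algebra.TensorProduct.tmul_mul_tmul, mul_one, one_mul]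
    | add x y hx hy => simp only [map_add, hx, hy]
  have hm : g r ∈ IsLocalRing.maximalIdeal L := by
    suffices (IsLocalRing.maximalIdeal A).map (algebraMap A (A ⊗[R] B)) ≤ (IsLocalRing.maximalIdeal L).comap g from
      this hr
    rw [← Localization.AtPrime.map_eq_maximalIdeal (I := p), Ideal.map_map, Ideal.map_le_iff_le_comap]
    intro x hx
    show g (loc x ⊗ₜ 1) ∈ IsLocalRing.maximalIdeal L
    rw [show loc x ⊗ₜ[R] (1 : B) = Algebra.TensorProduct.map loc (AlgHom.id R B) (x ⊗ₜ 1) by simp, hg,
      ← Localization.AtPrime.map_eq_maximalIdeal (I := Q)]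
    exact Ideal.mem_map_of_mem _ hx
  have h3 : g r • g a' = g a' := by
    rw [smul_eq_mul, ← map_mul]
    exact congrArg g hra
  have h4 : IsUnit (1 - g r) := IsLocalRing.isUnit_one_sub_self_of_mem_nonunits _ hm
  rw [← hg a]
  refine h4.mul_right_eq_zero.mp ?_
  rw [sub_mul, one_mul]
  exact sub_eq_zero.mpr h3.symm

end Groth.Agent.Deform.TorsionDense
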