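import Groth.Prelude.Def_MoreMor
import Groth.Agent.Deform.TorsionDense.Alg

/-!
# Universal schematic density of a fibrewise dense family of flat schemes (IV 11.10.9)
-/

set_option autoImplicit false
set_option linter.style.haveILetI false
set_option backward.isDefEq.respectTransparency.types false

universe u

open CategoryTheory CategoryTheory.Limits AlgebraicGeometry
open scoped TensorProduct

namespace Groth.Agent.Deform.TorsionDense

section sections

/-- A section vanishes as soon as it vanishes on a covering family of affine open subschemes. -/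
theorem eq_zero_of_pieces {X F : Scheme.{u}} (g : X ⟶ F) {P : CommRingCat.{u}} (v : Spec P ⟶ F) [IsOpenImmersion v]
    (b : P)
    (h : ∀ x : X, g x ∈ v.opensRange → ∃ (Q : CommRingCat.{u}) (w : Spec Q ⟶ X) (_ : IsOpenImmersion w) (φ : P ⟶ Q),
      w ≫ g = Spec.map φ ≫ v ∧ x ∈ Set.range w ∧ φ b = 0) :
    g.app (v ''ᵁ ⊤) ((v.appIso ⊤).inv ((Scheme.ΓSpecIso P).inv b)) = 0 := by
  refine X.IsSheaf.section_ext fun x hx => ?_
  obtain ⟨Q, w, hw, φ, hφ, ⟨q, hq⟩, hb⟩ := h x (by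
    have : g x ∈ v ''ᵁ ⊤ := hx
    rwa [Scheme.Hom.image_top_eq_opensRange] at this)
  have hr : ∀ q' : Spec Q, g (w q') ∈ v ''ᵁ ⊤ := fun q' => by
    rw [← Scheme.Hom.comp_apply, hφ, Scheme.Hom.image_top_eq_opensRange]
    exact ⟨_, rfl⟩
  have e : w ''ᵁ ⊤ ≤ g ⁻¹ᵁ (v ''ᵁ ⊤) := by
    rintro _ ⟨q', -, rfl⟩
    exact hr q'
  refine ⟨w ''ᵁ ⊤, e, ⟨q, trivial, hq⟩, ?_⟩
  rw [map_zero]
  apply (ConcreteCategory.bijective_of_isIso (w.appIso ⊤).hom).1
  rw [map_zero, ← CommRingCat.comp_apply, ← CommRingCat.comp_apply, ← CommRingCat.comp_apply,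
    ← CommRingCat.comp_apply]
  have e1 : (⊤ : (Spec Q).Opens) ≤ (w ≫ g) ⁻¹ᵁ (v ''ᵁ ⊤) := fun q' _ => hr q'
  have e2 : (⊤ : (Spec Q).Opens) ≤ (Spec.map φ ≫ v) ⁻¹ᵁ (v ''ᵁ ⊤) := hφ ▸ e1
  have h1 : ((Scheme.ΓSpecIso P).inv ≫ (v.appIso ⊤).inv ≫ g.app (v ''ᵁ ⊤) ≫ X.presheaf.map (homOfLE e).op ≫
      (w.appIso ⊤).hom) = φ ≫ (Scheme.ΓSpecIso Q).inv := by
    have h2 : g.app (v ''ᵁ ⊤) ≫ X.presheaf.map (homOfLE e).op ≫ (w.appIso ⊤).hom =
        (w ≫ g).appLE (v ''ᵁ ⊤) ⊤ e1 := by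
      rw [Scheme.Hom.appIso_hom', ← Category.assoc, ← Scheme.Hom.appLE_comp_appLE w g _ _ _ e (w.preimage_image_eq ⊤).ge]
      rfl
    have h3 : (w ≫ g).appLE (v ''ᵁ ⊤) ⊤ e1 = (Spec.map φ ≫ v).appLE (v ''ᵁ ⊤) ⊤ e2 := by
      congr 1
    rw [h2, h3, ← Scheme.Hom.appLE_comp_appLE (Spec.map φ) v (v ''ᵁ ⊤) ⊤ ⊤ (v.preimage_image_eq ⊤).ge le_top,
      Scheme.Hom.appIso_inv_appLE_assoc]
    refine Eq.trans (congrArg _ ?_) (Scheme.ΓSpecIso_inv_naturality φ).symm
    rw [Scheme.Hom.map_appLE]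
    exact (Scheme.Hom.app_eq_appLE (Spec.map φ)).symm
  have h4 := congrArg (fun m : P ⟶ Γ(Spec Q, ⊤) => m b) h1
  simp only [CommRingCat.comp_apply, hb, map_zero] at h4 ⊢
  exact h4

end sections

section pieces

variable {S X T : Scheme.{u}} (π : X ⟶ S) (f : T ⟶ S) {V : S.Opens} (hV : IsAffineOpen V) {U : X.Opens}
  (hU : IsAffineOpen U) (hUV : U ≤ π ⁻¹ᵁ V) [Algebra Γ(S, V) Γ(X, U)] {E : Type u} [CommRing E] [Algebra Γ(S, V) E]
  (o : Spec (CommRingCat.of E) ⟶ T) [IsOpenImmersion o]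

/-- Charts of a fibre product. -/
theorem exists_piece (hB : CommRingCat.ofHom (algebraMap Γ(S, V) Γ(X, U)) = π.appLE V U hUV)
    (ho : o ≫ f = Spec.map (CommRingCat.ofHom (algebraMap Γ(S, V) E)) ≫ hV.fromSpec) :
    ∃ v : Spec (CommRingCat.of (E ⊗[Γ(S, V)] Γ(X, U))) ⟶ pullback π f, IsOpenImmersion v ∧
      v ≫ pullback.fst π f = Spec.map (CommRingCat.ofHom
        (Algebra.TensorProduct.includeRight (R := Γ(S, V)) (A := E) (B := Γ(X, U))).toRingHom) ≫ hU.fromSpec ∧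
      v ≫ pullback.snd π f = Spec.map (CommRingCat.ofHom
        (Algebra.TensorProduct.includeLeftRingHom (R := Γ(S, V)) (A := E) (B := Γ(X, U)))) ≫ o ∧
      Set.range v = pullback.fst π f ⁻¹' (U : Set X) ∩ pullback.snd π f ⁻¹' Set.range o := by
  have hP := (isPullback_SpecMap_of_isPushout _ _ _ _
    (CommRingCat.isPushout_tensorProduct Γ(S, V) E Γ(X, U))).flip
  have e₁ : Spec.map (CommRingCat.ofHom (algebraMap Γ(S, V) Γ(X, U))) ≫ hV.fromSpec = hU.fromSpec ≫ π :=
    hB ▸ IsAffineOpen.SpecMap_appLE_fromSpec π hV hU hUV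
  refine ⟨hP.isoPullback.hom ≫ pullback.map _ _ π f hU.fromSpec o hV.fromSpec e₁ ho.symm, inferInstance, ?_, ?_, ?_⟩
  · rw [Category.assoc, pullback.lift_fst, hP.isoPullback_hom_fst_assoc]
  · rw [Category.assoc, pullback.lift_snd, hP.isoPullback_hom_snd_assoc]
  · rw [Scheme.Hom.comp_base, TopCat.coe_comp, Set.range_comp,
      Set.range_eq_univ.mpr hP.isoPullback.hom.surjective, Set.image_univ, Scheme.Pullback.range_map,
      IsAffineOpen.range_fromSpec]

end pieces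

section main

variable {S H : Scheme.{u}} (π : H ⟶ S) [LocallyOfFiniteType π] {ι : Type u} {K : ι → Scheme.{u}}
  (q : ∀ i, K i ⟶ H)

/-- The family `q` is schematically dense on every fibre of `π`. -/
def FibreDense : Prop :=
  ∀ (s : S) (V : (π.fiber s).Opens) (t : Γ(π.fiber s, V)),
    (∀ i, (MoreMor.fiberMap (q i) π s).app V t = 0) → t = 0

/-- Joint injectivity on the chart level over a point of the base. -/
theorem dense_point {V : S.Opens} (hV : IsAffineOpen V) {U : H.Opens} (hU : IsAffineOpen U) (hUV : U ≤ π ⁻¹ᵁ V)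
    (E : Type u) [CommRing E] [Algebra Γ(S, V) E] (c : Spec (CommRingCat.of E) ⟶ S)
    (hc : c = Spec.map (CommRingCat.ofHom (algebraMap Γ(S, V) E)) ≫ hV.fromSpec)
    (hq : ∀ (W : (pullback π c).Opens) (t : Γ(pullback π c, W)),
      (∀ i, (pullback.map (q i ≫ π) c π c (q i) (𝟙 _) (𝟙 _) (by simp) (by simp)).app W t = 0) → t = 0) :
    letI : Algebra Γ(S, V) Γ(H, U) := (π.appLE V U hUV).hom.toAlgebra
    letI : ∀ j : (Σ i, {W : (K i).affineOpens // W.1 ≤ q i ⁻¹ᵁ U}), Algebra Γ(S, V) Γ(K j.1, j.2.1.1) :=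
      fun j => ((π.appLE V U hUV) ≫ (q j.1).appLE U j.2.1.1 j.2.2).hom.toAlgebra
    Dense (fun j : (Σ i, {W : (K i).affineOpens // W.1 ≤ q i ⁻¹ᵁ U}) =>
      ({ ((q j.1).appLE U j.2.1.1 j.2.2).hom with commutes' := fun _ => rfl } :
        Γ(H, U) →ₐ[Γ(S, V)] Γ(K j.1, j.2.1.1))) E := by
  letI : Algebra Γ(S, V) Γ(H, U) := (π.appLE V U hUV).hom.toAlgebra
  letI alg : ∀ j : (Σ i, {W : (K i).affineOpens // W.1 ≤ q i ⁻¹ᵁ U}), Algebra Γ(S, V) Γ(K j.1, j.2.1.1) :=
    fun j => ((π.appLE V U hUV) ≫ (q j.1).appLE U j.2.1.1 j.2.2).hom.toAlgebra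
  intro b hb
  obtain ⟨v, hv, hv1, hv2, hvr⟩ := exists_piece π c hV hU hUV
    (E := E) (𝟙 _) rfl ((Category.id_comp _).trans hc)
  haveI := hv
  have ht : (v.appIso ⊤).inv ((Scheme.ΓSpecIso _).inv b) = 0 := by
    refine hq (v ''ᵁ ⊤) _ fun i => eq_zero_of_pieces _ v b fun x hx => ?_
    let fm := pullback.map (q i ≫ π) c π c (q i) (𝟙 _) (𝟙 _) (by simp) (by simp)
    let z := pullback.fst (q i ≫ π) c x
    have hz : q i z ∈ U := by
      have h1 : fm x ∈ Set.range v := hx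
      rw [hvr] at h1
      have h2 : pullback.fst π c (fm x) ∈ U := h1.1
      rwa [← Scheme.Hom.comp_apply, show fm ≫ pullback.fst π c =
        pullback.fst _ _ ≫ q i from pullback.lift_fst _ _ _, Scheme.Hom.comp_apply] at h2
    obtain ⟨W, hW, hzW, hWU⟩ := exists_isAffineOpen_mem_and_subset (show z ∈ q i ⁻¹ᵁ U from hz)
    let j : (Σ i, {W : (K i).affineOpens // W.1 ≤ q i ⁻¹ᵁ U}) := ⟨i, ⟨W, hW⟩, hWU⟩
    have hWV : W ≤ (q i ≫ π) ⁻¹ᵁ V := hWU.trans ((q i).preimage_mono hUV)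
    letI : Algebra Γ(S, V) Γ(K i, W) := alg j
    have halg : CommRingCat.ofHom (algebraMap Γ(S, V) Γ(K j.1, j.2.1.1)) = (q i ≫ π).appLE V W hWV :=
      Scheme.Hom.appLE_comp_appLE (q i) π V U W hUV hWU
    obtain ⟨w, hw, hw1, hw2, hwr⟩ := exists_piece (q i ≫ π) c hV hW hWV
      (E := E) (𝟙 _) halg ((Category.id_comp _).trans hc)
    let ψ : Γ(H, U) →ₐ[Γ(S, V)] Γ(K j.1, j.2.1.1) :=
      { ((q j.1).appLE U j.2.1.1 j.2.2).hom with commutes' := fun _ => rfl }
    refine ⟨_, w, hw, CommRingCat.ofHom (Algebra.TensorProduct.map (AlgHom.id ↑Γ(S, V) E) ψ).toRingHom,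
      ?_, ?_, hb j⟩
    · apply pullback.hom_ext
      · rw [Category.assoc, Category.assoc _ v, hv1, show fm ≫ _ =
          pullback.fst _ _ ≫ q i from pullback.lift_fst _ _ _, reassoc_of% hw1,
          ← IsAffineOpen.SpecMap_appLE_fromSpec (q i) hU hW hWU, ← Spec.map_comp_assoc, ← Spec.map_comp_assoc]
        rfl
      · rw [Category.assoc, Category.assoc _ v, hv2, show fm ≫ _ =
          pullback.snd _ _ from (pullback.lift_snd _ _ _).trans (Category.comp_id _), hw2, ← Spec.map_comp_assoc]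
        congr 2
        ext y
        show y ⊗ₜ[Γ(S, V)] (1 : Γ(K j.1, j.2.1.1)) =
          Algebra.TensorProduct.map (AlgHom.id ↑Γ(S, V) E) ψ (y ⊗ₜ 1)
        simp
    · rw [hwr]
      exact ⟨hzW, ⟨_, rfl⟩⟩
  have h5 := congrArg (v.appIso ⊤).hom ht
  rw [Iso.inv_hom_id_apply, map_zero] at h5
  exact (ConcreteCategory.bijective_of_isIso (Scheme.ΓSpecIso _).inv).1 (h5.trans (map_zero _).symm)

set_option maxHeartbeats 800000 in
/-- A closed subscheme containing a fibrewise dense family of flat schemes is everything, after any base change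
to a locally Noetherian scheme. -/
theorem isIso_of_fibreDense (hq : FibreDense π q) [∀ i, Flat (q i ≫ π)] {T : Scheme.{u}} [IsLocallyNoetherian T]
    (f : T ⟶ S) {Y : Scheme.{u}} (y : Y ⟶ pullback π f) [IsClosedImmersion y]
    (hy : ∀ i, ∃ l : pullback (q i ≫ π) f ⟶ Y, l ≫ y =
      pullback.map (q i ≫ π) f π f (q i) (𝟙 T) (𝟙 S) (by simp) (by simp)) : IsIso y := by
  have hloc : ∀ z : ↑(pullback π f), ∃ (P : CommRingCat.{u}) (v : Spec P ⟶ pullback π f), IsOpenImmersion v ∧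
      z ∈ Set.range v ∧ IsIso (pullback.snd y v) := by
    intro z
    obtain ⟨V, hV, hzV, -⟩ := exists_isAffineOpen_mem_and_subset
      (show π (pullback.fst π f z) ∈ (⊤ : S.Opens) from trivial)
    obtain ⟨U, hU, hzU, hUV⟩ := exists_isAffineOpen_mem_and_subset
      (show pullback.fst π f z ∈ π ⁻¹ᵁ V from hzV)
    obtain ⟨V', hV', hzV', hVV'⟩ := exists_isAffineOpen_mem_and_subset
      (show pullback.snd π f z ∈ f ⁻¹ᵁ V by
        show f (pullback.snd π f z) ∈ V
        rwa [← Scheme.Hom.comp_apply, ← pullback.condition, Scheme.Hom.comp_apply])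
    letI : Algebra Γ(S, V) Γ(H, U) := (π.appLE V U hUV).hom.toAlgebra
    letI alg : ∀ j : (Σ i, {W : (K i).affineOpens // W.1 ≤ q i ⁻¹ᵁ U}), Algebra Γ(S, V) Γ(K j.1, j.2.1.1) :=
      fun j => ((π.appLE V U hUV) ≫ (q j.1).appLE U j.2.1.1 j.2.2).hom.toAlgebra
    letI : Algebra Γ(S, V) Γ(T, V') := (f.appLE V V' hVV').hom.toAlgebra
    haveI : IsNoetherianRing Γ(T, V') := IsLocallyNoetherian.component_noetherian ⟨V', hV'⟩
    haveI : Algebra.FiniteType Γ(S, V) Γ(H, U) :=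
      HasRingHomProperty.appLE @LocallyOfFiniteType π inferInstance ⟨V, hV⟩ ⟨U, hU⟩ hUV
    let ψ : ∀ j : (Σ i, {W : (K i).affineOpens // W.1 ≤ q i ⁻¹ᵁ U}), Γ(H, U) →ₐ[Γ(S, V)] Γ(K j.1, j.2.1.1) :=
      fun j => { ((q j.1).appLE U j.2.1.1 j.2.2).hom with commutes' := fun _ => rfl }
    have hWV : ∀ j : (Σ i, {W : (K i).affineOpens // W.1 ≤ q i ⁻¹ᵁ U}), j.2.1.1 ≤ (q j.1 ≫ π) ⁻¹ᵁ V :=
      fun j => j.2.2.trans ((q j.1).preimage_mono hUV)
    have halg : ∀ j : (Σ i, {W : (K i).affineOpens // W.1 ≤ q i ⁻¹ᵁ U}),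
        CommRingCat.ofHom (algebraMap Γ(S, V) Γ(K j.1, j.2.1.1)) = (q j.1 ≫ π).appLE V j.2.1.1 (hWV j) :=
      fun j => Scheme.Hom.appLE_comp_appLE (q j.1) π V U j.2.1.1 hUV j.2.2
    haveI : ∀ j : (Σ i, {W : (K i).affineOpens // W.1 ≤ q i ⁻¹ᵁ U}), Module.Flat Γ(S, V) Γ(K j.1, j.2.1.1) :=
      fun j => by
        have := HasRingHomProperty.appLE @Flat (q j.1 ≫ π) inferInstance ⟨V, hV⟩ j.2.1 (hWV j)
        rw [← Scheme.Hom.appLE_comp_appLE _ _ V U j.2.1.1 hUV j.2.2] at this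
        exact this
    obtain ⟨v, hv, hv1, hv2, hvr⟩ := exists_piece π f hV hU hUV (E := Γ(T, V')) hV'.fromSpec rfl
      (IsAffineOpen.SpecMap_appLE_fromSpec f hV hV' hVV').symm
    refine ⟨_, v, hv, by rw [hvr, IsAffineOpen.range_fromSpec]; exact ⟨hzU, hzV'⟩, ?_⟩
    haveI : IsClosedImmersion (pullback.snd y v) := MorphismProperty.pullback_snd _ _ inferInstance
    obtain ⟨I, e, he⟩ := IsClosedImmersion.Spec_iff.mp (inferInstance : IsClosedImmersion (pullback.snd y v))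
    have hd : Dense ψ Γ(T, V') := dense_of_fibres ψ fun p hp => by
      let c : Spec (CommRingCat.of p.ResidueField) ⟶ S :=
        Spec.map (CommRingCat.ofHom (algebraMap Γ(S, V) p.ResidueField)) ≫ hV.fromSpec
      let s := c (IsLocalRing.closedPoint p.ResidueField)
      let φ := Scheme.descResidueField (Scheme.stalkClosedPointTo c)
      have hφ : Spec.map φ ≫ S.fromSpecResidueField s = c :=
        S.descResidueField_stalkClosedPointTo_fromSpecResidueField p.ResidueField c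
      have hsV : Set.range (S.fromSpecResidueField s) ⊆ Set.range hV.fromSpec := by
        rw [Scheme.range_fromSpecResidueField, Set.singleton_subset_iff]
        exact ⟨_, rfl⟩
      let l := IsOpenImmersion.lift hV.fromSpec (S.fromSpecResidueField s) hsV
      letI : Algebra Γ(S, V) (S.residueField s) := (Spec.preimage l).hom.toAlgebra
      have hs : S.fromSpecResidueField s =
          Spec.map (CommRingCat.ofHom (algebraMap Γ(S, V) (S.residueField s))) ≫ hV.fromSpec := by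
        show _ = Spec.map (Spec.preimage l) ≫ _
        rw [Spec.map_preimage, IsOpenImmersion.lift_fac]
      letI : Algebra (S.residueField s) p.ResidueField := φ.hom.toAlgebra
      haveI : IsScalarTower Γ(S, V) (S.residueField s) p.ResidueField := by
        refine IsScalarTower.of_algebraMap_eq' ?_
        have h1 : CommRingCat.ofHom (algebraMap Γ(S, V) p.ResidueField) =
            CommRingCat.ofHom (algebraMap Γ(S, V) (S.residueField s)) ≫ φ := by
          apply Spec.map_injective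
          apply (cancel_mono hV.fromSpec).mp
          rw [Spec.map_comp, Category.assoc, ← hs, hφ]
        exact congrArg CommRingCat.Hom.hom h1
      exact Dense.of_field (K := ↑(S.residueField s)) ψ
        (dense_point π q hV hU hUV (↑(S.residueField s)) (S.fromSpecResidueField s) hs (hq s))
    have hI : ∀ a : Γ(T, V') ⊗[Γ(S, V)] Γ(H, U), a ∈ I → a = 0 := fun a ha => hd a fun j => by
      obtain ⟨w, hw, hw1, hw2, -⟩ := exists_piece (q j.1 ≫ π) f hV j.2.1.2 (hWV j) (E := Γ(T, V')) hV'.fromSpec (halg j)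
        (IsAffineOpen.SpecMap_appLE_fromSpec f hV hV' hVV').symm
      obtain ⟨l, hl⟩ := hy j.1
      let m := CommRingCat.ofHom (Algebra.TensorProduct.map (AlgHom.id ↑Γ(S, V) ↑Γ(T, V')) (ψ j)).toRingHom
      have hm : (w ≫ l) ≫ y = Spec.map m ≫ v := by
        rw [Category.assoc, hl]
        apply pullback.hom_ext
        · rw [Category.assoc, Category.assoc _ v, hv1, pullback.lift_fst, reassoc_of% hw1,
            ← IsAffineOpen.SpecMap_appLE_fromSpec (q j.1) hU j.2.1.2 j.2.2, ← Spec.map_comp_assoc,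
            ← Spec.map_comp_assoc]
          rfl
        · rw [Category.assoc, Category.assoc _ v, hv2, pullback.lift_snd, Category.comp_id, hw2, ← Spec.map_comp_assoc]
          congr 2
          ext x
          show x ⊗ₜ[Γ(S, V)] (1 : Γ(K j.1, j.2.1.1)) =
            Algebra.TensorProduct.map (AlgHom.id ↑Γ(S, V) ↑Γ(T, V')) (ψ j) (x ⊗ₜ 1)
          simp
      let n := Spec.preimage (pullback.lift (w ≫ l) (Spec.map m) hm ≫ e.hom)
      have hn : CommRingCat.ofHom (Ideal.Quotient.mk I) ≫ n = m := by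
        apply Spec.map_injective
        rw [Spec.map_comp, Spec.map_preimage, Category.assoc, ← he, pullback.lift_snd]
      have h9 : n (Ideal.Quotient.mk I a) = m a := congrArg (fun r => r.hom a) hn
      rw [Ideal.Quotient.eq_zero_iff_mem.mpr ha] at h9
      erw [map_zero] at h9
      exact h9.symm
    rw [he]
    haveI : IsIso (CommRingCat.ofHom (Ideal.Quotient.mk I)) :=
      (ConcreteCategory.isIso_iff_bijective _).mpr
        ⟨(injective_iff_map_eq_zero (Ideal.Quotient.mk I)).mpr fun a ha => hI a (Ideal.Quotient.eq_zero_iff_mem.mp ha),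
          Ideal.Quotient.mk_surjective⟩
    infer_instance
  choose P v hv hz hiso using hloc
  haveI := hv
  let 𝒰 : (pullback π f).OpenCover :=
    { I₀ := ↑(pullback π f)
      X := fun z => Spec (P z)
      f := v
      mem₀ := by
        rw [Scheme.presieve₀_mem_precoverage_iff]
        exact ⟨fun z => ⟨z, hz z⟩, inferInstance⟩ }
  exact (IsZariskiLocalAtTarget.iff_of_openCover (P := MorphismProperty.isomorphisms Scheme) 𝒰).mpr
    fun z => hiso z

end main

end Groth.Agent.Deform.TorsionDense
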