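import Groth.Agent.Deform.TorsionDense.Main

/-!
# Factorisation loci and transporters for groups with schematically dense torsion (IX 4.9, 4.10)
-/

set_option autoImplicit false
set_option linter.style.haveILetI false
set_option backward.isDefEq.respectTransparency.types false

universe u

open CategoryTheory CategoryTheory.Limits MonoidalCategory CartesianMonoidalCategory MonObj GrpObj AlgebraicGeometry

attribute [local instance] CategoryTheory.Hom.monoid CategoryTheory.Hom.group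

namespace Groth.Agent.Deform.TorsionDense

section congr

variable {S H : Scheme.{u}} (π : H ⟶ S) {Y : Scheme.{u}} (y : Y ⟶ H)

theorem factor_congr {K : Scheme.{u}} (p : K ⟶ S) (m : K ⟶ H) {S' : Scheme.{u}} {g g' : S' ⟶ S} (h : g = g') :
    (∃ l : pullback p g ⟶ Y, l ≫ y = pullback.fst p g ≫ m) ↔ ∃ l : pullback p g' ⟶ Y, l ≫ y = pullback.fst p g' ≫ m := by
  subst h; exact Iff.rfl

theorem factor'_id_iff {K : Scheme.{u}} (q : K ⟶ H) {S' : Scheme.{u}} (g : S' ⟶ S) :
    Factor' π (𝟙 S) (y ≫ inv (pullback.fst π (𝟙 S))) q g ↔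
      ∃ l : pullback (q ≫ π) g ⟶ Y, l ≫ y = pullback.fst (q ≫ π) g ≫ q := by
  rw [← factor_congr y (q ≫ π) q (Category.comp_id g)]
  refine exists_congr fun l => ?_
  rw [← cancel_mono (pullback.fst π (𝟙 S)), Category.assoc, Category.assoc, IsIso.inv_hom_id, Category.comp_id y,
    pullback.lift_fst]

theorem factor_id_iff {S' : Scheme.{u}} (g : S' ⟶ S) :
    Factor π (𝟙 S) (y ≫ inv (pullback.fst π (𝟙 S))) g ↔ ∃ l : pullback π g ⟶ Y, l ≫ y = pullback.fst π g := by
  have h : (∃ l : pullback π g ⟶ Y, l ≫ y = pullback.fst π g) ↔ ∃ l : pullback π g ⟶ Y, l ≫ y = pullback.fst π g ≫ 𝟙 H := by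
    simp only [Category.comp_id]
  rw [h, ← factor_congr y π (𝟙 H) (Category.comp_id g)]
  refine exists_congr fun l => ?_
  rw [← cancel_mono (pullback.fst π (𝟙 S)), Category.assoc, Category.assoc, IsIso.inv_hom_id, Category.comp_id y,
    pullback.lift_fst]

end congr

/-- To prove something for all points of `G` it suffices to treat those given by a morphism of schemes. -/
theorem over_induction {S : Scheme.{u}} {G : Over S} {P : ∀ (X : Over S), (X ⟶ G) → Prop}
    (h : ∀ (Xl : Scheme.{u}) (gl : Xl ⟶ G.left), P (Over.mk (gl ≫ G.hom)) (Over.homMk gl rfl))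
    (X : Over S) (g : X ⟶ G) : P X g := by
  have key : ∀ (Xl : Scheme.{u}) (Xh : Xl ⟶ S) (gl : Xl ⟶ G.left) (w : gl ≫ G.hom = Xh),
      P (Over.mk Xh) (Over.homMk gl w) := by
    intro Xl Xh gl w
    subst w
    exact h Xl gl
  exact key X.left X.hom g.left (Over.w g)

section group

variable {S : Scheme.{u}} (H : Over S) [GrpObj H]

/-- The inclusion of the `n`-torsion. -/
noncomputable abbrev torsι (n : ℕ) : pullback η[H].left (𝟙 H ^ n : H ⟶ H).left ⟶ H.left :=
  pullback.snd η[H].left (𝟙 H ^ n : H ⟶ H).left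

theorem torsι_pow (n : ℕ) :
    (Over.homMk (torsι H n) rfl : Over.mk (torsι H n ≫ H.hom) ⟶ H) ^ n = 1 := by
  let qq : Over.mk (torsι H n ≫ H.hom) ⟶ H := Over.homMk (torsι H n) rfl
  have h1 : qq ^ n = qq ≫ (𝟙 H ^ n) := by rw [MonObj.comp_pow, Category.comp_id]
  rw [h1, Hom.one_def]
  apply Over.OverMorphism.ext
  show torsι H n ≫ (𝟙 H ^ n : H ⟶ H).left = (torsι H n ≫ H.hom) ≫ η[H].left
  rw [← pullback.condition]
  congr 1
  have h2 := Over.w (𝟙 H ^ n : H ⟶ H)
  have h3 : η[H].left ≫ H.hom = 𝟙 S := Over.w η[H]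
  conv_rhs => rw [← h2, ← pullback.condition_assoc, h3]
  exact (Category.comp_id _).symm

theorem exists_lift_torsι {n : ℕ} {X : Over S} (h : X ⟶ H) (hh : h ^ n = 1) :
    ∃ a : X ⟶ Over.mk (torsι H n ≫ H.hom), a ≫ Over.homMk (torsι H n) rfl = h := by
  have h1 : h ≫ (𝟙 H ^ n) = (1 : X ⟶ H) := by rw [MonObj.comp_pow, Category.comp_id, hh]
  have h2 : (X.hom : X.left ⟶ S) ≫ η[H].left = h.left ≫ (𝟙 H ^ n : H ⟶ H).left := by
    rw [← Over.comp_left, h1, Hom.one_def]
    rfl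
  refine ⟨Over.homMk (pullback.lift X.hom h.left h2) ?_, Over.OverMorphism.ext (pullback.lift_snd _ _ _)⟩
  show pullback.lift X.hom h.left h2 ≫ torsι H n ≫ H.hom = X.hom
  rw [pullback.lift_snd_assoc, Over.w h]

theorem torsι_dir (m n : ℕ) : ∃ a, a ≫ torsι H (m * n) = torsι H m := by
  obtain ⟨a, ha⟩ := exists_lift_torsι H (n := m * n) (Over.homMk (torsι H m) rfl : Over.mk (torsι H m ≫ H.hom) ⟶ H)
    (by rw [pow_mul, torsι_pow, _root_.one_pow])
  exact ⟨a.left, congrArg CommaMorphism.left ha⟩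

variable (G K : Over S) [GrpObj G] [GrpObj K] (u : H ⟶ G) (k : K ⟶ G)

/-- Conjugation of `u` by the universal point. -/
noncomputable abbrev conjMap : H ⊗ G ⟶ G := snd H G * (fst H G ≫ u) * (snd H G)⁻¹

theorem transporter_iff {W X : Over S} (w : W ⟶ H) (g : X ⟶ G) :
    (∃ l : (W ⊗ X).left ⟶ (pullback (conjMap H G u) k).left,
        l ≫ (pullback.fst (conjMap H G u) k).left = (w ⊗ₘ g).left) ↔
      ∀ (X' : Over S) (x : X' ⟶ X) (a : X' ⟶ W), ∃ κ : X' ⟶ K,
        (x ≫ g) * ((a ≫ w) ≫ u) * (x ≫ g)⁻¹ = κ ≫ k := by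
  have hconj : ∀ {Z : Over S} (a : Z ⟶ W) (x : Z ⟶ X), lift a x ≫ (w ⊗ₘ g) ≫ conjMap H G u =
      (x ≫ g) * ((a ≫ w) ≫ u) * (x ≫ g)⁻¹ := fun a x => by
    rw [← Category.assoc, lift_map, conjMap, MonObj.comp_mul, MonObj.comp_mul, GrpObj.comp_inv, lift_snd,
      lift_fst_assoc]
  constructor
  · rintro ⟨l, hl⟩ X' x a
    let lo : W ⊗ X ⟶ pullback (conjMap H G u) k := Over.homMk l (by
      rw [← Over.w (pullback.fst (conjMap H G u) k), reassoc_of% hl, Over.w])
    have hlo : lo ≫ pullback.fst (conjMap H G u) k = w ⊗ₘ g := Over.OverMorphism.ext hl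
    exact ⟨lift a x ≫ lo ≫ pullback.snd _ _, by
      rw [← hconj, ← hlo, Category.assoc, Category.assoc, Category.assoc, pullback.condition]⟩
  · intro hall
    obtain ⟨κ, hκ⟩ := hall (W ⊗ X) (snd W X) (fst W X)
    rw [← hconj, lift_fst_snd, Category.id_comp] at hκ
    exact ⟨(pullback.lift (w ⊗ₘ g) κ hκ : W ⊗ X ⟶ pullback (conjMap H G u) k).left, by
      rw [← Over.comp_left, pullback.lift_fst]⟩

end group

end Groth.Agent.Deform.TorsionDense
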