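import Groth.Agent.Deform.TorsionDense.Scheme
import Groth.Agent.HilbDLib.Separated
import Groth.Agent.H23.FinCondSch

/-!
# Representability of "factors through a closed subscheme" for a scheme with a dense finite flat family (IX 4.9)
-/

set_option autoImplicit false
set_option linter.style.haveILetI false
set_option backward.isDefEq.respectTransparency.types false

universe u

open CategoryTheory CategoryTheory.Limits AlgebraicGeometry

namespace Groth.Agent.Deform.TorsionDense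

theorem map_map {X X' X'' Y Y' Y'' S : Scheme.{u}} {f : X ⟶ S} {g : Y ⟶ S} {f' : X' ⟶ S} {g' : Y' ⟶ S} {f'' : X'' ⟶ S}
    {g'' : Y'' ⟶ S} {a : X ⟶ X'} {b : Y ⟶ Y'} {a' : X' ⟶ X''} {b' : Y' ⟶ Y''} {a'' : X ⟶ X''} {b'' : Y ⟶ Y''}
    (e₁ : f ≫ 𝟙 S = a ≫ f') (e₂ : g ≫ 𝟙 S = b ≫ g') (e₁' : f' ≫ 𝟙 S = a' ≫ f'') (e₂' : g' ≫ 𝟙 S = b' ≫ g'')
    (e₁'' : f ≫ 𝟙 S = a'' ≫ f'') (e₂'' : g ≫ 𝟙 S = b'' ≫ g'') (ha : a ≫ a' = a'') (hb : b ≫ b' = b'') :
    pullback.map f g f' g' a b (𝟙 S) e₁ e₂ ≫ pullback.map f' g' f'' g'' a' b' (𝟙 S) e₁' e₂' =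
      pullback.map f g f'' g'' a'' b'' (𝟙 S) e₁'' e₂'' := by
  subst ha hb
  apply pullback.hom_ext
  · rw [Category.assoc, pullback.lift_fst, pullback.lift_fst_assoc, pullback.lift_fst, Category.assoc]
  · rw [Category.assoc, pullback.lift_snd, pullback.lift_snd_assoc, pullback.lift_snd, Category.assoc]

variable {S H G : Scheme.{u}} (π : H ⟶ S) (f : G ⟶ S) {Y : Scheme.{u}} (y : Y ⟶ pullback π f)

/-- The base change of `π` along `g` maps into the closed subscheme. -/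
def Factor {S' : Scheme.{u}} (g : S' ⟶ G) : Prop :=
  ∃ l : pullback π (g ≫ f) ⟶ Y, l ≫ y = pullback.map π (g ≫ f) π f (𝟙 H) g (𝟙 S) (by simp) (by simp)

/-- The base change of `q ≫ π` along `g` maps into the closed subscheme. -/
def Factor' {K : Scheme.{u}} (q : K ⟶ H) {S' : Scheme.{u}} (g : S' ⟶ G) : Prop :=
  ∃ l : pullback (q ≫ π) (g ≫ f) ⟶ Y, l ≫ y = pullback.map (q ≫ π) (g ≫ f) π f q g (𝟙 S) (by simp) (by simp)

variable {π f y}

theorem Factor.factor' {K : Scheme.{u}} (q : K ⟶ H) {S' : Scheme.{u}} {g : S' ⟶ G} (h : Factor π f y g) :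
    Factor' π f y q g := by
  obtain ⟨l, hl⟩ := h
  refine ⟨pullback.map (q ≫ π) (g ≫ f) π (g ≫ f) q (𝟙 _) (𝟙 _) (by simp) (by simp) ≫ l, ?_⟩
  refine (Category.assoc _ l y).trans ?_
  rw [hl]
  exact map_map _ _ _ _ _ _ (by simp) (by simp)

theorem Factor'.of_comp {K K' : Scheme.{u}} {q : K ⟶ H} {q' : K' ⟶ H} (a : K' ⟶ K) (ha : a ≫ q = q')
    {S' : Scheme.{u}} {g : S' ⟶ G} (h : Factor' π f y q g) : Factor' π f y q' g := by
  obtain ⟨l, hl⟩ := h
  subst ha
  refine ⟨pullback.map ((a ≫ q) ≫ π) (g ≫ f) (q ≫ π) (g ≫ f) a (𝟙 _) (𝟙 _) (by simp) (by simp) ≫ l, ?_⟩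
  refine (Category.assoc _ l y).trans ?_
  rw [hl]
  exact map_map _ _ _ _ _ _ (by simp) (by simp)

theorem Factor.comp {T S' : Scheme.{u}} {t : T ⟶ G} (g' : S' ⟶ T) (h : Factor π f y t) : Factor π f y (g' ≫ t) := by
  obtain ⟨l, hl⟩ := h
  refine ⟨pullback.map π ((g' ≫ t) ≫ f) π (t ≫ f) (𝟙 _) g' (𝟙 _) (by simp) (by simp) ≫ l, ?_⟩
  refine (Category.assoc _ l y).trans ?_
  rw [hl]
  exact map_map _ _ _ _ _ _ (by simp) (by simp)

theorem factors_iff_ker_le {T S' : Scheme.{u}} (t : T ⟶ G) [IsClosedImmersion t] (g : S' ⟶ G) :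
    (∃ g', g' ≫ t = g) ↔ t.ker ≤ g.ker :=
  ⟨fun ⟨g', hg'⟩ => hg' ▸ g'.le_ker_comp t,
    fun h => ⟨IsClosedImmersion.lift t g h, IsClosedImmersion.lift_fac _ _ _⟩⟩

variable (π f y) [LocallyOfFiniteType π] [IsLocallyNoetherian G] [IsClosedImmersion y]

/-- The locus of one finite flat member of the family. -/
theorem exists_stage {K : Scheme.{u}} (q : K ⟶ H) [IsFinite (q ≫ π)] [Flat (q ≫ π)] :
    ∃ I : G.IdealSheafData, ∀ (S' : Scheme.{u}) (g : S' ⟶ G), Factor' π f y q g ↔ I ≤ g.ker := by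
  let π' := pullback.snd (q ≫ π) f
  let m := pullback.map (q ≫ π) f π f q (𝟙 G) (𝟙 S) (by simp) (by simp)
  haveI : IsFinite π' := MorphismProperty.pullback_snd (P := @IsFinite) _ _ inferInstance
  haveI : Flat π' := MorphismProperty.pullback_snd (P := @Flat) _ _ inferInstance
  haveI : LocallyOfFinitePresentation π' := inferInstance
  haveI : IsClosedImmersion (pullback.snd y m) := MorphismProperty.pullback_snd (P := @IsClosedImmersion) _ _ ‹_›
  obtain ⟨Z, z, hz, hu⟩ := GrpSchLib.exists_weilRestriction (HilbDLib.hasIdeals_of_finLocFree π' (pullback.snd y m))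
  refine ⟨z.ker, fun S' g => Iff.trans ?_ ((hu S' g).symm.trans (factors_iff_ker_le z g))⟩
  constructor
  · rintro ⟨l, hl⟩
    let a : pullback g π' ⟶ pullback (q ≫ π) (g ≫ f) :=
      pullback.lift (pullback.snd g π' ≫ pullback.fst _ _) (pullback.fst g π') (by
        rw [Category.assoc, pullback.condition, ← Category.assoc, ← pullback.condition, Category.assoc])
    refine ⟨pullback.lift (a ≫ l) (pullback.snd g π') ?_, pullback.lift_snd _ _ _⟩
    rw [Category.assoc, hl]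
    apply pullback.hom_ext
    · rw [Category.assoc, pullback.lift_fst, pullback.lift_fst_assoc, Category.assoc, Category.assoc,
        show m ≫ pullback.fst π f = pullback.fst _ _ ≫ q from pullback.lift_fst _ _ _]
    · rw [Category.assoc, pullback.lift_snd, pullback.lift_snd_assoc, Category.assoc,
        show m ≫ pullback.snd π f = π' from (pullback.lift_snd _ _ _).trans (Category.comp_id _)]
      exact pullback.condition
  · rintro ⟨l, hl⟩
    let b : pullback (q ≫ π) (g ≫ f) ⟶ pullback g π' :=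
      pullback.lift (pullback.snd _ _)
        (pullback.map (q ≫ π) (g ≫ f) (q ≫ π) f (𝟙 _) g (𝟙 _) (by simp) (by simp)) (by rw [show π' = pullback.snd (q ≫ π) f from rfl, pullback.lift_snd])
    refine ⟨b ≫ l ≫ pullback.fst y m, ?_⟩
    rw [Category.assoc, Category.assoc, pullback.condition, reassoc_of% hl, pullback.lift_snd_assoc]
    exact map_map _ _ _ _ _ _ (Category.id_comp _) (Category.comp_id _)

variable {ι : Type u} [Nonempty ι] {K : ι → Scheme.{u}} (q : ∀ i, K i ⟶ H) [∀ i, IsFinite (q i ≫ π)]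
  [∀ i, Flat (q i ≫ π)]

/-- The locus is representable; over a Noetherian base one member of the family suffices. -/
theorem exists_locus (hdir : ∀ i j, ∃ k, (∃ a, a ≫ q k = q i) ∧ ∃ a, a ≫ q k = q j) (hq : FibreDense π q) :
    (∃ (T : Scheme.{u}) (t : T ⟶ G), IsClosedImmersion t ∧
      ∀ (S' : Scheme.{u}) (g : S' ⟶ G), (∃ g', g' ≫ t = g) ↔ Factor π f y g) ∧
    (IsNoetherian G → ∃ i, ∀ (S' : Scheme.{u}) (g : S' ⟶ G), Factor π f y g ↔ Factor' π f y (q i) g) := by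
  choose I hI using fun i => exists_stage π f y (q i)
  let t := (⨆ i, I i).subschemeι
  haveI : IsLocallyNoetherian (⨆ i, I i).subscheme := LocallyOfFiniteType.isLocallyNoetherian t
  have hall : ∀ (S' : Scheme.{u}) (g : S' ⟶ G), (∃ g', g' ≫ t = g) ↔ ∀ i, Factor' π f y (q i) g := fun S' g => by
    rw [factors_iff_ker_le, Scheme.IdealSheafData.ker_subschemeι, iSup_le_iff]
    simp only [hI]
  have ht : Factor π f y t := by
    let n := pullback.map π (t ≫ f) π f (𝟙 H) t (𝟙 S) (by simp) (by simp)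
    haveI : IsClosedImmersion (pullback.snd y n) := MorphismProperty.pullback_snd (P := @IsClosedImmersion) _ _ ‹_›
    haveI := isIso_of_fibreDense π q hq (t ≫ f) (pullback.snd y n) fun i => by
      obtain ⟨l, hl⟩ := (hall _ t).mp ⟨𝟙 _, Category.id_comp _⟩ i
      exact ⟨pullback.lift l (pullback.map (q i ≫ π) (t ≫ f) π (t ≫ f) (q i) (𝟙 _) (𝟙 S) (by simp) (by simp))
        (by rw [hl]; exact (map_map _ _ _ _ _ _ (Category.comp_id _) (Category.id_comp _)).symm), pullback.lift_snd _ _ _⟩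
    exact ⟨inv (pullback.snd y n) ≫ pullback.fst y n, by rw [Category.assoc, pullback.condition, IsIso.inv_hom_id_assoc]⟩
  have hfac : ∀ (S' : Scheme.{u}) (g : S' ⟶ G), (∃ g', g' ≫ t = g) ↔ Factor π f y g := fun S' g =>
    ⟨fun ⟨g', hg'⟩ => hg' ▸ ht.comp g', fun h => (hall S' g).mpr fun i => h.factor' (q i)⟩
  refine ⟨⟨_, t, inferInstance, hfac⟩, fun hG => ?_⟩
  haveI := H23.FinCondSch.wellFoundedGT (X := G)
  obtain ⟨i₀, hmax⟩ : ∃ i₀, ∀ j, ¬ I i₀ < I j := by
    obtain ⟨_, ⟨i₀, rfl⟩, hm⟩ := (wellFounded_gt (α := G.IdealSheafData)).has_min (Set.range I) (Set.range_nonempty I)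
    exact ⟨i₀, fun j => hm _ ⟨j, rfl⟩⟩
  refine ⟨i₀, fun S' g => ⟨fun h => h.factor' _, fun h => (hfac S' g).mp ((hall S' g).mpr fun j => ?_)⟩⟩
  obtain ⟨k, ⟨a, ha⟩, ⟨b, hb⟩⟩ := hdir i₀ j
  have hle : ∀ {i} (a : K i ⟶ K k), a ≫ q k = q i → I i ≤ I k := fun {i} a ha => by
    have h1 : Factor' π f y (q k) (I k).subschemeι := (hI k _ _).mpr (Scheme.IdealSheafData.ker_subschemeι _).ge
    exact ((hI i _ _).mp (h1.of_comp a ha)).trans (Scheme.IdealSheafData.ker_subschemeι _).le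
  have he : I i₀ = I k := (hle a ha).lt_or_eq.resolve_left (hmax k)
  rw [hI] at h ⊢
  exact (hle b hb).trans (he ▸ h)

end Groth.Agent.Deform.TorsionDense
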